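import Groth.Agent.L13.ModPair.Basic
import Groth.Agent.L13.ModPair.MinimalComp
import Groth.Agent.L19.Approx.Proper
import Groth.Agent.L19.Approx.IdealStage
import Groth.Agent.L23.SchemeFacts

/-! Finitely presented models carrying a locally principal ideal. -/

set_option autoImplicit false
set_option linter.style.haveILetI false
set_option backward.isDefEq.respectTransparency false
set_option backward.defeqAttrib.useBackward true

universe u

open CategoryTheory CategoryTheory.Limits AlgebraicGeometry TopologicalSpace Opposite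

namespace Groth.L13.LPApprox

open Groth.L22 Groth.L13.MP Groth.L19.Approx

/-- every point has an affine neighbourhood on which the ideal is principal: pullback -/
theorem locPrinc_comap {X Y : Scheme.{u}} (f : X ⟶ Y) {D : Y.IdealSheafData} (hD : LocPrinc D) :
    LocPrinc (D.comap f) := fun x => by
  obtain ⟨W, hxW, c, hW⟩ := hD (f x)
  obtain ⟨U, V, e, hxV, -, hUW⟩ := Ideals.exists_affine_pair f x (W := ⊤) trivial (W' := W.1) hxW
  refine ⟨V, hxV, (f.appLE U.1 V.1 e).hom (Y.presheaf.map (homOfLE hUW).op c), ?_⟩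
  rw [Ideals.comap_ideal f D U V e, ← D.map_ideal (U := U) (V := W) hUW, hW, Ideal.map_span,
    Set.image_singleton, Ideal.map_span, Set.image_singleton]
  rfl

theorem locPrinc_mul {X : Scheme.{u}} {D E : X.IdealSheafData} (hD : LocPrinc D) (hE : LocPrinc E) :
    LocPrinc (D * E) := fun x => by
  obtain ⟨U, hxU, f, hf⟩ := hD x
  obtain ⟨W, hxW, g, hg⟩ := hE x
  obtain ⟨_, ⟨V, hV, rfl⟩, hxV, hVle⟩ := X.isBasis_affineOpens.exists_subset_of_mem_open
    (show x ∈ U.1 ⊓ W.1 from ⟨hxU, hxW⟩) (U.1 ⊓ W.1).2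
  have h1 : V ≤ U.1 := fun y hy => (hVle hy).1
  have h2 : V ≤ W.1 := fun y hy => (hVle hy).2
  refine ⟨⟨V, hV⟩, hxV, X.presheaf.map (homOfLE h1).op f * X.presheaf.map (homOfLE h2).op g, ?_⟩
  rw [Scheme.IdealSheafData.ideal_mul, Pi.mul_apply, ← D.map_ideal (U := ⟨V, hV⟩) (V := U) h1,
    ← E.map_ideal (U := ⟨V, hV⟩) (V := W) h2, hf, hg, Ideal.map_span, Set.image_singleton, Ideal.map_span,
    Set.image_singleton, Ideal.span_singleton_mul_span_singleton]
  rfl

/-- finite sums of finitely generated ideal sheaves inside a given one -/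
theorem exists_fgOn_of_finset {Z : Scheme.{u}} [CompactSpace Z] [QuasiSeparatedSpace Z] (L : Z.IdealSheafData)
    {σ : Type*} (s : Finset σ) (P : σ → Z.IdealSheafData → Prop) (hP : ∀ a K K', K ≤ K' → P a K → P a K')
    (h : ∀ a ∈ s, ∃ K ≤ L, FGOn K ⊤ ∧ P a K) :
    ∃ K ≤ L, FGOn K ⊤ ∧ ∀ a ∈ s, P a K := by
  classical
  induction s using Finset.induction with
  | empty => exact ⟨⊥, bot_le, fgOn_bot ⊤, fun a ha => absurd ha (Finset.notMem_empty a)⟩
  | insert a t ha ih =>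
    obtain ⟨K, hK, hKf, hKP⟩ := ih fun b hb => h b (Finset.mem_insert_of_mem hb)
    obtain ⟨K', hK', hKf', hKP'⟩ := h a (Finset.mem_insert_self _ _)
    refine ⟨K ⊔ K', sup_le hK hK', hKf.sup hKf', fun b hb => ?_⟩
    rcases Finset.mem_insert.1 hb with rfl | hb
    · exact hP _ _ _ le_sup_right hKP'
    · exact hP _ _ _ le_sup_left (hKP b hb)

/-- a finitely presented embedding of `X` over `Y` -/
structure Model {X Y : Scheme.{u}} (f : X ⟶ Y) where
  Z : Scheme.{u}
  g : Z ⟶ Y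
  j : X ⟶ Z
  isClosedImm : IsClosedImmersion j
  lfp : LocallyOfFinitePresentation g
  compact : CompactSpace Z
  qsep : QuasiSeparatedSpace Z
  fac : j ≫ g = f

variable {X Y : Scheme.{u}} {f : X ⟶ Y}

attribute [instance] Model.isClosedImm Model.lfp Model.compact Model.qsep

/-- shrinking a model by a finitely generated ideal vanishing on `X` -/
noncomputable def Model.shrink (M : Model f) (K : M.Z.IdealSheafData) (hK : K ≤ M.j.ker) (hfg : FGOn K ⊤) :
    Model f where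
  Z := K.subscheme
  g := K.subschemeι ≫ M.g
  j := IsClosedImmersion.lift K.subschemeι M.j (K.ker_subschemeι.le.trans hK)
  isClosedImm := by
    haveI : IsClosedImmersion (IsClosedImmersion.lift K.subschemeι M.j (K.ker_subschemeι.le.trans hK) ≫
        K.subschemeι) := by rw [IsClosedImmersion.lift_fac]; infer_instance
    exact IsClosedImmersion.of_comp_isClosedImmersion _ K.subschemeι
  lfp := by
    haveI := lfp_subschemeι hfg
    infer_instance
  compact := compactSpace_subscheme K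
  qsep := quasiSeparatedSpace_of_quasiSeparated K.subschemeι
  fac := by rw [IsClosedImmersion.lift_fac_assoc, M.fac]

theorem Model.shrink_fac (M : Model f) (K : M.Z.IdealSheafData) (hK : K ≤ M.j.ker) (hfg : FGOn K ⊤) :
    (M.shrink K hK hfg).j ≫ K.subschemeι = M.j :=
  IsClosedImmersion.lift_fac K.subschemeι M.j (K.ker_subschemeι.le.trans hK)

theorem exists_model [LocallyOfFiniteType f] [CompactSpace X] [QuasiSeparatedSpace X] [QuasiSeparatedSpace Y] :
    Nonempty (Model f) := by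
  obtain ⟨Z, g, j, hg, hc, hq, hj, hjg⟩ := embeds_of_locallyOfFiniteType f
  exact ⟨⟨Z, g, j, hj, hg, hc, hq, hjg⟩⟩

theorem exists_model_proper [CompactSpace Y] [QuasiSeparatedSpace Y] [IsProper f] (M : Model f) :
    ∃ M' : Model f, IsProper M'.g := by
  haveI : IsProper (M.j ≫ M.g) := by rw [M.fac]; infer_instance
  obtain ⟨i, hi⟩ := exists_stage_isProper M.j M.g
  exact ⟨M.shrink i.unop.1 i.unop.2.1 i.unop.2.2, hi i (𝟙 i)⟩

/-- the kernel is finitely generated over an open over which `f` is finitely presented -/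
theorem fgOn_ker_preimage (M : Model f) (V : Y.Opens) [LocallyOfFinitePresentation (f ∣_ V)] :
    FGOn M.j.ker (M.g ⁻¹ᵁ V) := by
  let O := M.g ⁻¹ᵁ V
  haveI : LocallyOfFinitePresentation ((M.j ∣_ O) ≫ O.ι ≫ M.g) := by
    have : ∀ {f' : X ⟶ Y} (_ : f' = f), LocallyOfFinitePresentation ((f' ⁻¹ᵁ V).ι ≫ f') := by
      rintro _ rfl
      rw [← morphismRestrict_ι]
      infer_instance
    rw [morphismRestrict_ι_assoc]
    exact this M.fac
  haveI : LocallyOfFiniteType (O.ι ≫ M.g) := inferInstance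
  haveI : LocallyOfFinitePresentation (M.j ∣_ O) :=
    Groth.L23.lfp_of_comp_lft (M.j ∣_ O) (O.ι ≫ M.g) inferInstance
  intro W hW
  have hpre : O.ι ''ᵁ (O.ι ⁻¹ᵁ W.1) = W.1 := by
    rw [Scheme.Hom.image_preimage_eq_opensRange_inf, Scheme.Opens.opensRange_ι, inf_eq_right]
    exact hW
  have haff : IsAffineOpen (O.ι ⁻¹ᵁ W.1) := by
    rw [← Scheme.Hom.isAffineOpen_iff_of_isOpenImmersion O.ι, hpre]; exact W.2
  have h := fgOn_ker (M.j ∣_ O) ⟨_, haff⟩ le_top
  rw [Scheme.Hom.ker_apply, morphismRestrict_app] at h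
  erw [CommRingCat.hom_comp, RingHom.ker_comp_of_injective _ (ConcreteCategory.bijective_of_isIso _).1] at h
  have key : ∀ (W' : M.Z.Opens) (hW' : W' = W.1) (hW'a : IsAffineOpen W'),
      (RingHom.ker (M.j.app W').hom).FG → (M.j.ker.ideal W).FG := by
    rintro _ rfl hW'a hh
    rw [Scheme.Hom.ker_apply]
    exact hh
  exact key _ hpre (hpre.symm ▸ W.2) h

/-- if `f` is an isomorphism over `V` then some model is -/
theorem exists_model_iso (M : Model f) (V : Y.Opens) (hV : IsCompact (M.g ⁻¹ᵁ V : Set M.Z))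
    [IsIso (f ∣_ V)] :
    ∃ (K : M.Z.IdealSheafData) (hK : K ≤ M.j.ker) (hfg : FGOn K ⊤), IsIso ((M.shrink K hK hfg).g ∣_ V) := by
  obtain ⟨K, hK, hfg, hKO⟩ := exists_fgOn_top M.j.ker hV (fgOn_ker_preimage M V)
  refine ⟨K, hK, hfg, ?_⟩
  let g' : K.subscheme ⟶ Y := K.subschemeι ≫ M.g
  let k : X ⟶ K.subscheme := (M.shrink K hK hfg).j
  have hk : k ≫ K.subschemeι = M.j := M.shrink_fac K hK hfg
  have hkg : k ≫ g' = f := by rw [reassoc_of% hk, M.fac]
  let O' := g' ⁻¹ᵁ V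
  let h : O'.toScheme ⟶ M.Z := O'.ι ≫ K.subschemeι
  haveI : QuasiCompact O'.ι := by
    have hc : IsCompact (O' : Set K.subscheme) :=
      K.subschemeι.isClosedEmbedding.isCompact_preimage hV
    refine ⟨fun W hW hWc => ?_⟩
    refine O'.ι.isOpenEmbedding.isInducing.isCompact_iff.2 ?_
    rw [Set.image_preimage_eq_inter_range, Scheme.Opens.range_ι]
    haveI := quasiSeparatedSpace_of_quasiSeparated K.subschemeι
    exact QuasiSeparatedSpace.inter_isCompact W O' hW hWc O'.2 hc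
  have hker : M.j.ker ≤ h.ker := by
    intro W s hs
    refine mem_ker_of_forall h (M.g ⁻¹ᵁ V) (fun z => z.2) W s fun V' hV'W hV' => ?_
    have h1 : Groth.L19.Approx.res hV'W s ∈ M.j.ker.ideal V' := by
      rw [← map_res M.j.ker hV'W]
      exact Ideal.mem_map_of_mem _ hs
    rw [← hKO V' hV'] at h1
    exact ((Scheme.IdealSheafData.ker_subschemeι K).ge.trans (Scheme.Hom.le_ker_comp O'.ι K.subschemeι)) V' h1
  let l : O'.toScheme ⟶ X := IsClosedImmersion.lift M.j h hker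
  have hl : l ≫ M.j = h := IsClosedImmersion.lift_fac _ _ _
  have hlf : l ≫ f = O'.ι ≫ g' :=
    (congrArg (fun φ => l ≫ φ) M.fac.symm).trans
      ((reassoc_of% hl) M.g)
  let p := g' ∣_ V
  show IsIso p
  have hle : f ⁻¹ᵁ V ≤ k ⁻¹ᵁ O' := by
    intro x hx
    show g' (k x) ∈ V
    rw [← Scheme.Hom.comp_apply, hkg]
    exact hx
  let s : (f ⁻¹ᵁ V).toScheme ⟶ O'.toScheme := k.resLE O' (f ⁻¹ᵁ V) hle
  have hs : s ≫ O'.ι = (f ⁻¹ᵁ V).ι ≫ k := Scheme.Hom.resLE_comp_ι _ _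
  have hsp : s ≫ p = f ∣_ V := by
    rw [← cancel_mono V.ι, Category.assoc, morphismRestrict_ι, morphismRestrict_ι, reassoc_of% hs, hkg]
  let l' : O'.toScheme ⟶ (f ⁻¹ᵁ V).toScheme := IsOpenImmersion.lift (f ⁻¹ᵁ V).ι l (by
    rintro _ ⟨z, rfl⟩
    rw [Scheme.Opens.range_ι]
    show f (l z) ∈ V
    rw [← Scheme.Hom.comp_apply, hlf]
    exact z.2)
  have hl' : l' ≫ (f ⁻¹ᵁ V).ι = l := IsOpenImmersion.lift_fac _ _ _
  have hl'f : l' ≫ (f ∣_ V) = p := by
    rw [← cancel_mono V.ι, Category.assoc, morphismRestrict_ι, morphismRestrict_ι, reassoc_of% hl', hlf]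
  refine ⟨inv (f ∣_ V) ≫ s, ?_, by rw [Category.assoc, hsp, IsIso.inv_hom_id]⟩
  rw [← hl'f, Category.assoc, IsIso.hom_inv_id_assoc]
  rw [← cancel_mono O'.ι, ← cancel_mono K.subschemeι]
  simp only [Category.assoc, Category.id_comp]
  rw [reassoc_of% hs, hk, reassoc_of% hl', hl]

/-- isomorphy over an open persists -/
theorem isIso_restrict_shrink (M : Model f) (V : Y.Opens) [IsIso (M.g ∣_ V)] [IsIso (f ∣_ V)]
    (K : M.Z.IdealSheafData) (hK : K ≤ M.j.ker) (hfg : FGOn K ⊤) : IsIso ((K.subschemeι ≫ M.g) ∣_ V) := by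
  rw [morphismRestrict_comp]
  haveI : Mono (K.subschemeι ∣_ M.g ⁻¹ᵁ V) := inferInstance
  let k : X ⟶ K.subscheme := (M.shrink K hK hfg).j
  have hk : k ≫ K.subschemeι = M.j := M.shrink_fac K hK hfg
  have hkg : k ≫ K.subschemeι ≫ M.g = f := by rw [reassoc_of% hk, M.fac]
  let O' := (K.subschemeι ≫ M.g) ⁻¹ᵁ V
  have hle : f ⁻¹ᵁ V ≤ k ⁻¹ᵁ O' := by
    intro x hx
    show (K.subschemeι ≫ M.g) (k x) ∈ V
    rw [← Scheme.Hom.comp_apply, hkg]
    exact hx
  let s : (f ⁻¹ᵁ V).toScheme ⟶ O'.toScheme := k.resLE O' (f ⁻¹ᵁ V) hle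
  have hs : s ≫ O'.ι = (f ⁻¹ᵁ V).ι ≫ k := Scheme.Hom.resLE_comp_ι _ _
  have hsp : s ≫ ((K.subschemeι ≫ M.g) ∣_ V) = f ∣_ V := by
    rw [← cancel_mono V.ι, Category.assoc, morphismRestrict_ι, morphismRestrict_ι, reassoc_of% hs, hkg]
  rw [morphismRestrict_comp] at hsp
  haveI : IsSplitEpi (K.subschemeι ∣_ M.g ⁻¹ᵁ V) := ⟨⟨(M.g ∣_ V) ≫ inv (f ∣_ V) ≫ s, by
    rw [← cancel_mono (M.g ∣_ V)]
    simp only [Category.assoc, Category.id_comp]
    erw [hsp]
    rw [IsIso.inv_hom_id, Category.comp_id]⟩⟩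
  haveI : IsIso (K.subschemeι ∣_ M.g ⁻¹ᵁ V) := isIso_of_mono_of_isSplitEpi _
  infer_instance

/-- a finitely generated ideal cutting out a locally principal one on `X` is locally principal after shrinking -/
theorem exists_locPrinc_shrink (M : Model f) (J : M.Z.IdealSheafData) (hJ : FGOn J ⊤)
    (hJX : LocPrinc (J.comap M.j)) :
    ∃ (K : M.Z.IdealSheafData) (_ : K ≤ M.j.ker) (_ : FGOn K ⊤), LocPrinc (J.comap K.subschemeι) := by
  classical
  have key : ∀ z : M.Z, ∃ U : M.Z.affineOpens, z ∈ U.1 ∧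
      ∃ e : Γ(X, M.j ⁻¹ᵁ U.1), (J.comap M.j).ideal ⟨_, U.2.preimage M.j⟩ = Ideal.span {e} := by
    intro z
    by_cases hz : z ∈ Set.range M.j
    · obtain ⟨x, rfl⟩ := hz
      obtain ⟨W, hxW, e, hW⟩ := hJX x
      obtain ⟨O, hO, hOW⟩ := M.j.isClosedEmbedding.isInducing.isOpen_iff.1 W.1.2
      obtain ⟨_, ⟨U, hU, rfl⟩, hxU, hUO⟩ := M.Z.isBasis_affineOpens.exists_subset_of_mem_open
        (show M.j x ∈ O from (hOW.symm ▸ hxW : x ∈ M.j ⁻¹' O)) hO
      have hle : M.j ⁻¹ᵁ U ≤ W.1 := fun y hy => hOW.le (show y ∈ M.j ⁻¹' O from hUO hy)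
      refine ⟨⟨U, hU⟩, hxU, X.presheaf.map (homOfLE hle).op e, ?_⟩
      rw [← (J.comap M.j).map_ideal (U := ⟨_, hU.preimage M.j⟩) (V := W) hle, hW, Ideal.map_span,
        Set.image_singleton]
      rfl
    · obtain ⟨_, ⟨U, hU, rfl⟩, hzU, hUr⟩ := M.Z.isBasis_affineOpens.exists_subset_of_mem_open
        (show z ∈ (Set.range M.j)ᶜ from hz) M.j.isClosedEmbedding.isClosed_range.isOpen_compl
      refine ⟨⟨U, hU⟩, hzU, 0, ?_⟩
      haveI : Subsingleton Γ(X, M.j ⁻¹ᵁ U) := by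
        have : M.j ⁻¹ᵁ U = ⊥ := by
          ext y
          exact ⟨fun hy => (hUr hy ⟨y, rfl⟩).elim, fun hy => hy.elim⟩
        rw [this]; infer_instance
      exact Subsingleton.elim _ _
  choose U hzU e he using key
  obtain ⟨t, ht⟩ := (isCompact_univ (X := M.Z)).elim_finite_subcover (fun z => ((U z).1 : Set M.Z))
    (fun z => (U z).1.2) fun z _ => Set.mem_iUnion.2 ⟨z, hzU z⟩
  -- lifts of the generators
  have hgen : ∀ z, ∃ a ∈ J.ideal (U z), ∀ g ∈ J.ideal (U z),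
      ∃ c : Γ(M.Z, (U z).1), g - c * a ∈ M.j.ker.ideal (U z) := by
    intro z
    have hsurj : Function.Surjective (M.j.app (U z).1) := M.j.app_surjective _ (U z).2
    have hmap : (J.ideal (U z)).map (M.j.app (U z).1).hom = Ideal.span {e z} := by
      rw [← he z, Ideals.comap_ideal M.j J (U z) ⟨_, (U z).2.preimage M.j⟩ le_rfl, Scheme.Hom.app_eq_appLE]
    obtain ⟨a, ha, hae⟩ := (Ideal.mem_map_iff_of_surjective _ hsurj).1
      (hmap ▸ Ideal.mem_span_singleton_self (e z))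
    refine ⟨a, ha, fun g hg => ?_⟩
    obtain ⟨c, hc⟩ := Ideal.mem_span_singleton'.1 (hmap ▸ Ideal.mem_map_of_mem (M.j.app (U z).1).hom hg)
    obtain ⟨c', rfl⟩ := hsurj c
    refine ⟨c', ?_⟩
    rw [Scheme.Hom.ker_apply, RingHom.mem_ker, map_sub, map_mul, hae, sub_eq_zero]
    exact hc.symm
  choose a haJ ha using hgen
  obtain ⟨K, hK, hKfg, hKP⟩ := exists_fgOn_of_finset M.j.ker t
    (fun z K => J.ideal (U z) ≤ Ideal.span {a z} ⊔ K.ideal (U z))
    (fun z K K' hKK' h => h.trans (sup_le_sup_left (hKK' (U z)) _)) fun z _ => by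
      obtain ⟨G, hG⟩ := hJ (U z) le_top
      have hGm : ∀ g ∈ G, g ∈ J.ideal (U z) := fun g hg => hG ▸ Ideal.subset_span hg
      obtain ⟨K, hK, hKfg, hKP⟩ := exists_fgOn_of_finset M.j.ker G
        (fun g K => g ∈ Ideal.span {a z} ⊔ K.ideal (U z))
        (fun g K K' hKK' h => sup_le_sup_left (hKK' (U z)) _ h) fun g hg => by
          obtain ⟨c, hc⟩ := ha z g (hGm g hg)
          obtain ⟨K, hK, hKfg, hm⟩ := exists_fgOn_mem M.j.ker (U z) hc
          refine ⟨K, hK, hKfg, ?_⟩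
          have h1 : c * a z ∈ Ideal.span {a z} ⊔ K.ideal (U z) :=
            Ideal.mem_sup_left (Ideal.mul_mem_left _ c (Ideal.mem_span_singleton_self _))
          simpa using add_mem h1 (Ideal.mem_sup_right (S := Ideal.span {a z}) hm)
      exact ⟨K, hK, hKfg, by rw [← hG]; exact Ideal.span_le.2 hKP⟩
  refine ⟨K, hK, hKfg, fun w => ?_⟩
  obtain ⟨z, hz, hwz⟩ := Set.mem_iUnion₂.1 (ht (Set.mem_univ (K.subschemeι w)))
  refine ⟨⟨K.subschemeι ⁻¹ᵁ (U z).1, (U z).2.preimage _⟩, hwz, K.subschemeι.app (U z).1 (a z), ?_⟩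
  rw [Ideals.comap_ideal K.subschemeι J (U z) ⟨_, (U z).2.preimage _⟩ le_rfl, ← Scheme.Hom.app_eq_appLE]
  refine le_antisymm ((Ideal.map_mono (hKP z hz)).trans ?_) ?_
  · rw [Ideal.map_sup, Ideal.map_span, Set.image_singleton]
    refine sup_le le_rfl ?_
    rw [Ideal.map_le_iff_le_comap]
    refine fun g hg => ?_
    rw [← K.ker_subschemeι, Scheme.Hom.ker_apply, RingHom.mem_ker] at hg
    rw [Ideal.mem_comap, hg]
    exact zero_mem _
  · exact (Ideal.span_singleton_le_iff_mem _).2 (Ideal.mem_map_of_mem _ (haJ z))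

/-- a model with a locally principal ideal restricting to a given one -/
theorem exists_model_locPrinc (M : Model f) (E : X.IdealSheafData) (hE : LocPrinc E) :
    ∃ (K : M.Z.IdealSheafData) (hK : K ≤ M.j.ker) (hfg : FGOn K ⊤)
      (J : K.subscheme.IdealSheafData), LocPrinc J ∧ J.comap (M.shrink K hK hfg).j = E := by
  let L := M.j.ker
  let D := fgSystem L ⋙ Over.forget M.Z
  haveI : ∀ {a b} (φ : a ⟶ b), IsAffineHom (D.map φ) := fun φ => by
    haveI : IsClosedImmersion (D.map φ) := isClosedImmersion_fgSystem_map L φ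
    infer_instance
  haveI : ∀ i, CompactSpace (D.obj i) := fun i => compactSpace_subscheme i.unop.1
  haveI : ∀ i, QuasiSeparatedSpace (D.obj i) := fun i =>
    quasiSeparatedSpace_of_quasiSeparated (Y := M.Z) i.unop.1.subschemeι
  have hEfg : FGOn E ⊤ := fun V _ => hE.locFG.fg V
  let t := M.j.toImage
  have hEt : (E.comap (inv t)).comap t = E := by
    rw [← Scheme.IdealSheafData.comap_comp, IsIso.hom_inv_id, Scheme.IdealSheafData.comap_id]
  obtain ⟨i, J₁, hJ₁, hJE⟩ := exists_fgOn_stage (isLimitForgetFGCone M.j) (E.comap (inv t))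
    fun V _ => (locPrinc_comap (inv t) hE).locFG.fg V
  let M₁ := M.shrink i.unop.1 i.unop.2.1 i.unop.2.2
  have hπ : t ≫ ((Over.forget M.Z).mapCone (fgCone M.j.ker)).π.app i = M₁.j := by
    apply (cancel_mono i.unop.1.subschemeι).mp
    rw [Category.assoc, M.shrink_fac]
    refine (congrArg (fun φ => t ≫ φ) (Over.w ((fgCone M.j.ker).π.app i))).trans ?_
    exact Scheme.Hom.toImage_imageι M.j
  have hJ₁E : J₁.comap M₁.j = E := by
    rw [← hπ, Scheme.IdealSheafData.comap_comp]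
    exact (congrArg (fun J => Scheme.IdealSheafData.comap J t) hJE).trans hEt
  obtain ⟨K₁, hK₁, hK₁f, hJ₂⟩ := exists_locPrinc_shrink M₁ J₁ hJ₁ (hJ₁E.symm ▸ hE)
  let ι₁ := K₁.subschemeι ≫ i.unop.1.subschemeι
  haveI : LocallyOfFinitePresentation K₁.subschemeι := lfp_subschemeι hK₁f
  haveI : LocallyOfFinitePresentation i.unop.1.subschemeι := lfp_subschemeι i.unop.2.2
  have hfg : FGOn ι₁.ker ⊤ := fgOn_ker ι₁
  have hKle : ι₁.ker ≤ M.j.ker := by
    rw [← M.shrink_fac i.unop.1 i.unop.2.1 i.unop.2.2, ← (M₁.shrink_fac K₁ hK₁ hK₁f : _ = M₁.j), Category.assoc]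
    exact Scheme.Hom.le_ker_comp _ _
  let e : ι₁.ker.subscheme ⟶ K₁.subscheme :=
    IsClosedImmersion.lift ι₁ ι₁.ker.subschemeι (ι₁.ker.ker_subschemeι).ge
  refine ⟨ι₁.ker, hKle, hfg, (J₁.comap K₁.subschemeι).comap e, locPrinc_comap e hJ₂, ?_⟩
  have he : (M.shrink ι₁.ker hKle hfg).j ≫ e = (M₁.shrink K₁ hK₁ hK₁f).j := by
    apply (cancel_mono ι₁).mp
    rw [Category.assoc, IsClosedImmersion.lift_fac, M.shrink_fac]
    rw [show ι₁ = K₁.subschemeι ≫ i.unop.1.subschemeι from rfl, ← Category.assoc,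
      M₁.shrink_fac K₁ hK₁ hK₁f, M.shrink_fac]
  rw [← Scheme.IdealSheafData.comap_comp, ← Scheme.IdealSheafData.comap_comp, he,
    M₁.shrink_fac K₁ hK₁ hK₁f, hJ₁E]

end Groth.L13.LPApprox
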