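import Groth.Agent.L13.LocPrincApprox.Model
import Groth.Prelude.Def_CurvBase
import Groth.Prelude.Def_W4c6modpairsegaMP

/-! Approximation of pairs by finitely presented schemes with locally principal ideals. -/

set_option autoImplicit false
set_option linter.style.haveILetI false
set_option backward.isDefEq.respectTransparency false

universe u

open CategoryTheory CategoryTheory.Limits AlgebraicGeometry TopologicalSpace Opposite

namespace Groth.L13.LPApprox

open Groth.L22 Groth.L13.MP Groth.L19.Approx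

/-- the quotient of effective Cartier ideals is locally principal -/
theorem locPrinc_colon {X : Scheme.{u}} {I D : X.IdealSheafData} (hI : BlowUp.IsEffCartierIdeal I)
    (hD : BlowUp.IsEffCartierIdeal D) (hle : I ≤ D) : LocPrinc (colon I (LocFG.of_isEffCartier hD)) := by
  intro x
  obtain ⟨U, hxU, t, -, -, hU⟩ := Ideals.exists_generator hI x
  obtain ⟨W, hxW, d, -, -, hW⟩ := Ideals.exists_generator hD x
  obtain ⟨_, ⟨V, hV, rfl⟩, hxV, hVle⟩ := X.isBasis_affineOpens.exists_subset_of_mem_open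
    (show x ∈ U.1 ⊓ W.1 from ⟨hxU, hxW⟩) (U.1 ⊓ W.1).2
  obtain ⟨htn, htI⟩ := hU ⟨V, hV⟩ fun y hy => (hVle hy).1
  obtain ⟨hdn, hdD⟩ := hW ⟨V, hV⟩ fun y hy => (hVle hy).2
  obtain ⟨c, hc⟩ := Ideal.mem_span_singleton'.1
    (hdD ▸ hle ⟨V, hV⟩ (htI ▸ Ideal.mem_span_singleton_self _))
  refine ⟨⟨V, hV⟩, hxV, c, ?_⟩
  show Submodule.colon (I.ideal ⟨V, hV⟩) (D.ideal ⟨V, hV⟩ : Set Γ(X, V)) = _
  rw [htI, hdD]
  refine le_antisymm (fun e he => ?_) ?_
  · obtain ⟨r, hr⟩ := Ideal.mem_span_singleton'.1 (Submodule.mem_colon.1 he _ (Ideal.mem_span_singleton_self _))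
    rw [smul_eq_mul, ← hc, ← mul_assoc] at hr
    exact Ideal.mem_span_singleton'.2 ⟨r, (mul_cancel_right_mem_nonZeroDivisors hdn).1 hr⟩
  · rw [Ideal.span_le, Set.singleton_subset_iff]
    refine Submodule.mem_colon.2 fun b hb => ?_
    obtain ⟨r, rfl⟩ := Ideal.mem_span_singleton'.1 hb
    rw [smul_eq_mul, ← mul_assoc, mul_comm c r, mul_assoc, hc]
    exact Ideal.mul_mem_left _ _ (Ideal.mem_span_singleton_self _)

variable {X Y : Scheme.{u}} {f : X ⟶ Y}

theorem exists_final [CompactSpace X] [QuasiSeparatedSpace X] [CompactSpace Y] [QuasiSeparatedSpace Y]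
    (IX : X.IdealSheafData) (IY : Y.IdealSheafData) (hX : BlowUp.IsEffCartierIdeal IX)
    (hY : BlowUp.IsEffCartierIdeal IY) (hf : ModPair.IsAmbient IX IY f) [LocallyOfFiniteType f] :
    ∃ (M : Model f) (J : M.Z.IdealSheafData), LocPrinc J ∧ J.comap M.j = IX ∧ J ≤ IY.comap M.g ∧
      (ModPair.IsMinimal IX IY f → J = IY.comap M.g) ∧ (IsProper f → IsProper M.g) ∧
      (IsIso (f ∣_ ModPair.interior IY) → IsIso (M.g ∣_ ModPair.interior IY)) := by
  classical
  obtain ⟨M, hMp⟩ : ∃ M : Model f, IsProper f → IsProper M.g := by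
    obtain ⟨M₀⟩ := exists_model (f := f)
    by_cases hp : IsProper f
    · obtain ⟨M, hM⟩ := exists_model_proper M₀
      exact ⟨M, fun _ => hM⟩
    · exact ⟨M₀, fun h => absurd h hp⟩
  obtain ⟨M, hMp, hMi⟩ : ∃ M : Model f, (IsProper f → IsProper M.g) ∧
      (IsIso (f ∣_ ModPair.interior IY) → IsIso (M.g ∣_ ModPair.interior IY)) := by
    by_cases hi : IsIso (f ∣_ ModPair.interior IY)
    · have hc : IsCompact (M.g ⁻¹ᵁ ModPair.interior IY : Set M.Z) := by
        haveI := quasiCompact_preimage M.g (quasiCompact_interior hY)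
        have h : CompactSpace (M.g ⁻¹ᵁ ModPair.interior IY).toScheme :=
          QuasiCompact.compactSpace_of_compactSpace (M.g ⁻¹ᵁ ModPair.interior IY).ι
        exact isCompact_iff_compactSpace.2 h
      obtain ⟨K, hK, hfg, hiso⟩ := exists_model_iso M (ModPair.interior IY) hc
      refine ⟨M.shrink K hK hfg, fun hp => ?_, fun _ => hiso⟩
      haveI := hMp hp
      exact inferInstanceAs (IsProper (K.subschemeι ≫ M.g))
    · exact ⟨M, hMp, fun h => absurd h hi⟩
  by_cases hmin : ModPair.IsMinimal IX IY f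
  · refine ⟨M, IY.comap M.g, LocPrinc.comap hY M.g, ?_, le_rfl, fun _ => rfl, hMp, hMi⟩
    rw [← Scheme.IdealSheafData.comap_comp, M.fac]
    exact hmin.symm
  · have hD : BlowUp.IsEffCartierIdeal (IY.comap f) := isEffCartier_comap_of_ambient hX hY hf
    obtain ⟨K, hK, hfg, J, hJ, hJE⟩ := exists_model_locPrinc M _ (locPrinc_colon hX hD hf)
    refine ⟨M.shrink K hK hfg, J * IY.comap (K.subschemeι ≫ M.g), locPrinc_mul hJ (LocPrinc.comap hY _), ?_,
      mul_le_right' _ _, fun h => absurd h hmin, fun hp => ?_, fun hi => ?_⟩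
    · rw [Ideals.comap_mul, hJE, ← Scheme.IdealSheafData.comap_comp, show (M.shrink K hK hfg).j ≫ K.subschemeι ≫ M.g = f from (M.shrink K hK hfg).fac]
      exact colon_mul hD hf
    · haveI := hMp hp
      exact inferInstanceAs (IsProper (K.subschemeι ≫ M.g))
    · haveI := hMi hi
      exact isIso_restrict_shrink M _ K hK hfg

theorem exists_approximation [CompactSpace X] [QuasiSeparatedSpace X] [CompactSpace Y] [QuasiSeparatedSpace Y]
    (IX : X.IdealSheafData) (IY : Y.IdealSheafData) (hX : BlowUp.IsEffCartierIdeal IX)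
    (hY : BlowUp.IsEffCartierIdeal IY) (hf : ModPair.IsAmbient IX IY f) [LocallyOfFiniteType f] :
    ∃ (I : Type u) (_ : SmallCategory I) (_ : IsCofiltered I) (D : I ⥤ Over Y) (c : Cone D)
      (_ : IsLimit c) (e : c.pt ≅ Over.mk f) (J : ∀ i, (D.obj i).left.IdealSheafData),
      (∀ i, LocallyOfFinitePresentation (D.obj i).hom ∧ QuasiCompact (D.obj i).hom ∧
          QuasiSeparated (D.obj i).hom) ∧
        (∀ (i j : I) (t : i ⟶ j), IsClosedImmersion (D.map t).left) ∧
        (∀ i, IsClosedImmersion (c.π.app i).left) ∧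
        (∀ i, Curv2.IsLocPrincipal (J i)) ∧
        (∀ i, IX = (J i).comap (e.inv.left ≫ (c.π.app i).left)) ∧
        (∀ (i j : I) (t : i ⟶ j), J i = (J j).comap (D.map t).left) ∧
        (∀ i, ModPair.IsAmbient (J i) IY (D.obj i).hom) ∧
        (ModPair.IsMinimal IX IY f → ∀ i, ModPair.IsMinimal (J i) IY (D.obj i).hom) ∧
        (IsProper f → ∀ i, IsProper (D.obj i).hom) ∧
        (ModPair.IsMinimal IX IY f → IsIso (f ∣_ ModPair.interior IY) →
          ∀ i, IsIso ((D.obj i).hom ∣_ ModPair.interior IY)) := by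
  obtain ⟨M, J, hJ, hJX, hJY, hJmin, hMp, hMi⟩ := exists_final IX IY hX hY hf
  let e : (overCone M.j M.g).pt ≅ Over.mk f := Over.isoMk (asIso M.j.toImage).symm (by
    change inv M.j.toImage ≫ f = M.j.imageι ≫ M.g
    rw [IsIso.inv_comp_eq, Scheme.Hom.toImage_imageι_assoc, M.fac])
  refine ⟨_, inferInstance, inferInstance, overSystem M.j M.g, overCone M.j M.g, isLimitOverCone M.j M.g, e,
    fun i => J.comap i.unop.1.subschemeι, fun i => ?_, fun i j t => isClosedImmersion_overSystem_map M.j M.g t,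
    fun i => isClosedImmersion_overCone_π M.j M.g i, fun i x _ => locPrinc_comap _ hJ x, fun i => ?_,
    fun i j t => ?_, fun i => ?_, fun h i => ?_, fun hp i => ?_, fun _ hi i => ?_⟩
  · haveI := compactSpace_overSystem M.j M.g i
    haveI := quasiSeparatedSpace_overSystem M.j M.g i
    exact ⟨lfp_overSystem M.j M.g i, quasiCompact_of_compactSpace _, inferInstance⟩
  · rw [← Scheme.IdealSheafData.comap_comp]
    conv_lhs => rw [← hJX]
    congr 1
    have h1 : ((overCone M.j M.g).π.app i).left ≫ i.unop.1.subschemeι = M.j.imageι :=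
      Over.w ((fgCone M.j.ker).π.app i)
    rw [Category.assoc, h1]
    exact (Scheme.Hom.toImage_imageι M.j).symm
  · show J.comap i.unop.1.subschemeι = _
    rw [← Scheme.IdealSheafData.comap_comp]
    congr 1
    exact (Over.w ((fgSystem M.j.ker).map t)).symm
  · show J.comap _ ≤ IY.comap (i.unop.1.subschemeι ≫ M.g)
    rw [Scheme.IdealSheafData.comap_comp]
    exact Scheme.IdealSheafData.comap_mono _ hJY
  · show J.comap _ = IY.comap (i.unop.1.subschemeι ≫ M.g)
    rw [Scheme.IdealSheafData.comap_comp, hJmin h]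
  · haveI := hMp hp
    exact inferInstanceAs (IsProper (i.unop.1.subschemeι ≫ M.g))
  · haveI := hMi hi
    exact isIso_restrict_shrink M _ i.unop.1 i.unop.2.1 i.unop.2.2

end Groth.L13.LPApprox
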